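import Mathlib
import Groth.Agent.ModPairLocal.Descend

/-!
# Free quadratic algebras with a trace-zero generator
-/

universe u
set_option autoImplicit false

namespace DblCovInv

variable {A B : Type u} [CommRing A] [CommRing B]

/-- `(1, e)` is a basis of `B` over `A` and `e² ∈ A`. -/
structure Good (φ : A →+* B) (e : B) : Prop where
  bij : Function.Bijective (fun p : A × A => φ p.1 + φ p.2 * e)
  sq : ∃ d, e * e = φ d

variable {φ : A →+* B} {e : B}

theorem Good.exists_rep (h : Good φ e) (b : B) : ∃ a c, b = φ a + φ c * e := by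
  obtain ⟨⟨a, c⟩, hp⟩ := h.bij.2 b
  exact ⟨a, c, hp.symm⟩

theorem Good.ext_rep (h : Good φ e) {a c a' c' : A} (heq : φ a + φ c * e = φ a' + φ c' * e) :
    a = a' ∧ c = c' :=
  Prod.ext_iff.1 (h.bij.1 (a₁ := (a, c)) (a₂ := (a', c')) heq)

theorem Good.injective (h : Good φ e) : Function.Injective φ := fun a a' haa =>
  (h.ext_rep (a := a) (c := 0) (a' := a') (c' := 0) (by simp [haa])).1

noncomputable def Good.sigFun (h : Good φ e) (b : B) : B :=
  φ ((Equiv.ofBijective _ h.bij).symm b).1 - φ ((Equiv.ofBijective _ h.bij).symm b).2 * e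

theorem Good.sigFun_rep (h : Good φ e) (a c : A) : h.sigFun (φ a + φ c * e) = φ a - φ c * e := by
  have : (Equiv.ofBijective _ h.bij).symm (φ a + φ c * e) = (a, c) :=
    (Equiv.ofBijective _ h.bij).symm_apply_apply (a, c)
  simp only [Good.sigFun, this]

/-- The conjugation of a quadratic algebra. -/
noncomputable def Good.sig (h : Good φ e) : B →+* B where
  toFun := h.sigFun
  map_one' := by simpa using h.sigFun_rep 1 0
  map_zero' := by simpa using h.sigFun_rep 0 0
  map_add' x y := by
    obtain ⟨a, c, rfl⟩ := h.exists_rep x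
    obtain ⟨a', c', rfl⟩ := h.exists_rep y
    have := h.sigFun_rep (a + a') (c + c')
    simp only [map_add, add_mul] at this
    rw [add_add_add_comm, this, h.sigFun_rep, h.sigFun_rep]
    ring
  map_mul' x y := by
    obtain ⟨a, c, rfl⟩ := h.exists_rep x
    obtain ⟨a', c', rfl⟩ := h.exists_rep y
    obtain ⟨d, hd⟩ := h.sq
    have hxy : (φ a + φ c * e) * (φ a' + φ c' * e) =
        φ (a * a' + c * c' * d) + φ (a * c' + c * a') * e := by
      simp only [map_add, map_mul, ← hd]; ring
    rw [hxy, h.sigFun_rep, h.sigFun_rep, h.sigFun_rep]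
    simp only [map_add, map_mul, ← hd]; ring

theorem Good.sig_rep (h : Good φ e) (a c : A) : h.sig (φ a + φ c * e) = φ a - φ c * e :=
  h.sigFun_rep a c

theorem Good.sig_map (h : Good φ e) (a : A) : h.sig (φ a) = φ a := by
  simpa using h.sig_rep a 0

theorem Good.sig_e (h : Good φ e) : h.sig e = -e := by
  simpa using h.sig_rep 0 1

theorem Good.sig_comp (h : Good φ e) : h.sig.comp φ = φ := RingHom.ext h.sig_map

theorem Good.sig_sig (h : Good φ e) (b : B) : h.sig (h.sig b) = b := by
  obtain ⟨a, c, rfl⟩ := h.exists_rep b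
  rw [h.sig_rep, map_sub, map_mul, h.sig_map, h.sig_map, h.sig_e]
  ring

theorem Good.sig_eq_self (h : Good φ e) (h2 : IsUnit (2 : A)) {b : B} (hb : h.sig b = b) :
    ∃ a, φ a = b := by
  obtain ⟨a, c, rfl⟩ := h.exists_rep b
  rw [h.sig_rep] at hb
  have : φ a + φ (2 * c) * e = φ a + φ 0 * e := by
    rw [map_zero, zero_mul, add_zero, map_mul, map_ofNat]; linear_combination -hb
  obtain ⟨-, hc⟩ := h.ext_rep this
  exact ⟨a, by simp [(h2.mul_right_eq_zero).1 hc]⟩

theorem Good.sig_unique (h : Good φ e) (h2 : IsUnit (2 : A)) {e' : B} (h' : Good φ e') :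
    h.sig = h'.sig := by
  obtain ⟨a, c, he'⟩ := h.exists_rep e'
  obtain ⟨a', c', he⟩ := h'.exists_rep e
  obtain ⟨d, hd⟩ := h.sq
  obtain ⟨d', hd'⟩ := h'.sq
  have h1 : φ (a' + c' * a) + φ (c' * c) * e = φ 0 + φ 1 * e := by
    rw [map_zero, map_one, map_add, map_mul, map_mul]
    linear_combination (-1 : B) * he - φ c' * he'
  obtain ⟨-, hcc⟩ := h.ext_rep h1
  have h3 : φ (a * a + c * c * d) + φ (2 * a * c) * e = φ d' + φ 0 * e := by
    simp only [map_add, map_mul, map_zero, map_ofNat, ← hd, ← hd', he']; ring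
  obtain ⟨-, hac⟩ := h.ext_rep h3
  have ha : a = 0 := by
    rw [mul_assoc] at hac
    have := (h2.mul_right_eq_zero).1 hac
    linear_combination c' * this - a * hcc
  rw [ha, map_zero, zero_add] at he'
  refine RingHom.ext fun b => ?_
  obtain ⟨x, y, rfl⟩ := h'.exists_rep b
  rw [h'.sig_rep, map_add, map_mul, h.sig_map, h.sig_map, he', map_mul, h.sig_map, h.sig_e]
  ring

section Loc

variable {A' B' : Type u} [CommRing A'] [CommRing B'] {φ' : A' →+* B'} {ρA : A →+* A'} {ρB : B →+* B'}

theorem Good.sig_nat (h : Good φ e) (h' : Good φ' (ρB e)) (hc : φ'.comp ρA = ρB.comp φ) :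
    h'.sig.comp ρB = ρB.comp h.sig := by
  refine RingHom.ext fun b => ?_
  obtain ⟨a, c, rfl⟩ := h.exists_rep b
  have hc' : ∀ x, ρB (φ x) = φ' (ρA x) := fun x => (RingHom.congr_fun hc x).symm
  simp only [RingHom.comp_apply, h.sig_rep]
  simp only [map_add, map_sub, map_mul, hc', h'.sig_map, h'.sig_e]
  ring

/-- `(1, e)` is a basis away from `r`. -/
structure PreGood (φ : A →+* B) (r : A) (e : B) : Prop where
  surj : ∀ b, ∃ n a c, φ r ^ n * b = φ a + φ c * e
  inj : ∀ a c, φ a + φ c * e = 0 → ∃ n, r ^ n * a = 0 ∧ r ^ n * c = 0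

theorem Good.preGood (h : Good φ e) (r : A) : PreGood φ r e where
  surj b := by
    obtain ⟨a, c, rfl⟩ := h.exists_rep b
    exact ⟨0, a, c, by simp⟩
  inj a c hac := by
    obtain ⟨rfl, rfl⟩ := h.ext_rep (a' := 0) (c' := 0) (by simpa using hac)
    exact ⟨0, by simp⟩

theorem PreGood.bijective {r : A} (h : PreGood φ r e) (hc : φ'.comp ρA = ρB.comp φ)
    (hu : IsUnit (ρA r)) (hA1 : ∀ x, ∃ a n, x * ρA r ^ n = ρA a)
    (hB1 : ∀ x, ∃ b n, x * ρB (φ r) ^ n = ρB b)
    (hB2 : ∀ b, ρB b = 0 → ∃ n, φ r ^ n * b = 0) :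
    Function.Bijective (fun p : A' × A' => φ' p.1 + φ' p.2 * ρB e) := by
  have hc' : ∀ x, ρB (φ x) = φ' (ρA x) := fun x => (RingHom.congr_fun hc x).symm
  refine ⟨?_, ?_⟩
  · suffices key : ∀ x y, φ' x + φ' y * ρB e = 0 → x = 0 ∧ y = 0 by
      intro p q hpq
      obtain ⟨h1, h2⟩ := key (p.1 - q.1) (p.2 - q.2) (by
        simp only [map_sub]; linear_combination hpq)
      exact Prod.ext (sub_eq_zero.1 h1) (sub_eq_zero.1 h2)
    intro x y hxy
    obtain ⟨a, n, ha⟩ := hA1 x
    obtain ⟨c, m, hc₂⟩ := hA1 y
    have hz : ρB (φ (a * r ^ m) + φ (c * r ^ n) * e) = 0 := by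
      simp only [map_add, map_mul, map_pow, hc', ← ha, ← hc₂]
      linear_combination (φ' (ρA r) ^ n * φ' (ρA r) ^ m) * hxy
    obtain ⟨k, hk⟩ := hB2 _ hz
    obtain ⟨l, hl1, hl2⟩ := h.inj (r ^ k * (a * r ^ m)) (r ^ k * (c * r ^ n)) (by
      simp only [map_mul, map_pow] at hk ⊢; linear_combination hk)
    have e1 := congrArg ρA hl1
    have e2 := congrArg ρA hl2
    simp only [map_mul, map_pow, map_zero, ← ha, ← hc₂] at e1 e2
    constructor
    · refine ((hu.pow l).mul ((hu.pow k).mul ((hu.pow n).mul (hu.pow m)))).mul_left_eq_zero.1 ?_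
      linear_combination e1
    · refine ((hu.pow l).mul ((hu.pow k).mul ((hu.pow n).mul (hu.pow m)))).mul_left_eq_zero.1 ?_
      linear_combination e2
  · intro x
    obtain ⟨b, n, hb⟩ := hB1 x
    obtain ⟨m, a, c, hm⟩ := h.surj b
    obtain ⟨v, hv⟩ := hu.exists_left_inv
    refine ⟨(v ^ (n + m) * ρA a, v ^ (n + m) * ρA c), ?_⟩
    have hm' := congrArg ρB hm
    simp only [map_mul, map_pow, map_add, hc', ← hb] at hm'
    have hv' : φ' v ^ (n + m) * φ' (ρA r) ^ (n + m) = 1 := by
      rw [← mul_pow, ← map_mul, hv, map_one, one_pow]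
    simp only [map_mul, map_pow]
    rw [hc'] at hb
    rw [pow_add, pow_add] at hv'
    rw [pow_add]
    linear_combination (-(φ' v ^ n * φ' v ^ m)) * hm' + x * hv'

theorem Good.localize {r : A} (h : Good φ e) (hc : φ'.comp ρA = ρB.comp φ)
    (hu : IsUnit (ρA r)) (hA1 : ∀ x, ∃ a n, x * ρA r ^ n = ρA a)
    (hB1 : ∀ x, ∃ b n, x * ρB (φ r) ^ n = ρB b)
    (hB2 : ∀ b, ρB b = 0 → ∃ n, φ r ^ n * b = 0) :
    Good φ' (ρB e) := by
  refine ⟨(h.preGood r).bijective hc hu hA1 hB1 hB2, ?_⟩
  obtain ⟨d, hd⟩ := h.sq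
  exact ⟨ρA d, by rw [← map_mul, hd]; exact (RingHom.congr_fun hc d).symm⟩

/-- Completing the square. -/
theorem exists_good (h2 : IsUnit (2 : A)) {φ : A →+* B} {e : B}
    (hb : Function.Bijective (fun p : A × A => φ p.1 + φ p.2 * e)) : ∃ e', Good φ e' := by
  obtain ⟨⟨q, p⟩, hqp⟩ := hb.2 (e * e)
  obtain ⟨v, hv⟩ := h2.exists_right_inv
  refine ⟨e - φ (p * v), ?_, q + p * v * (p * v), ?_⟩
  · let E : A × A ≃ A × A :=
      { toFun := fun x => (x.1 - x.2 * (p * v), x.2)
        invFun := fun x => (x.1 + x.2 * (p * v), x.2)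
        left_inv := fun x => by simp
        right_inv := fun x => by simp }
    have : (fun x : A × A => φ x.1 + φ x.2 * (e - φ (p * v))) =
        (fun x : A × A => φ x.1 + φ x.2 * e) ∘ E := by
      funext x
      simp only [Function.comp_apply, E, Equiv.coe_fn_mk, map_sub, map_mul]
      ring
    rw [this]
    exact hb.comp E.bijective
  · have hv' : (2 : B) * φ v = 1 := by rw [← map_ofNat φ 2, ← map_mul, hv, map_one]
    simp only [map_add, map_mul] at hqp ⊢
    linear_combination (-1 : B) * hqp - φ p * e * hv'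

end Loc

theorem exists_preGood [Algebra A B] [Module.FinitePresentation A B] [Module.Flat A B]
    (p : Ideal A) [p.IsPrime] (hrk : Module.rankAtStalk B (⟨p, inferInstance⟩ : PrimeSpectrum A) = 2) :
    ∃ r, r ∉ p ∧ ∃ e, PreGood (algebraMap A B) r e := by
  haveI : Module.Flat (Localization p.primeCompl) (LocalizedModule p.primeCompl B) := inferInstance
  haveI : Module.Finite (Localization p.primeCompl) (LocalizedModule p.primeCompl B) := inferInstance
  haveI : Module.Free (Localization p.primeCompl) (LocalizedModule p.primeCompl B) := Module.free_of_flat_of_isLocalRing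
  have hfr : Module.finrank (Localization p.primeCompl) (LocalizedModule p.primeCompl B) = 2 := hrk
  haveI : Nontrivial (LocalizedModule p.primeCompl B) := Module.nontrivial_of_finrank_eq_succ hfr
  letI : Algebra (Localization p.primeCompl) (LocalizedModule p.primeCompl B) := Algebra.ofModule
    (fun r x y => by
      induction r using Localization.induction_on with
      | H r =>
        induction x, y using LocalizedModule.induction_on₂ with
        | h a a' s t =>
          rw [LocalizedModule.mk_smul_mk, LocalizedModule.mk_mul_mk, LocalizedModule.mk_mul_mk,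
            LocalizedModule.mk_smul_mk, smul_mul_assoc, mul_assoc])
    (fun r x y => by
      induction r using Localization.induction_on with
      | H r =>
        induction x, y using LocalizedModule.induction_on₂ with
        | h a a' s t =>
          rw [LocalizedModule.mk_smul_mk, LocalizedModule.mk_mul_mk, LocalizedModule.mk_mul_mk,
            LocalizedModule.mk_smul_mk, mul_smul_comm, mul_left_comm])
  obtain ⟨d, bb, hb0⟩ := Groth.Agent.ModPairLocal.exists_basis_one (B := (Localization p.primeCompl)) (T := (LocalizedModule p.primeCompl B))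
  obtain rfl : d = 1 := by
    have := Module.finrank_eq_card_basis bb
    simp [hfr] at this
    omega
  obtain ⟨⟨m, s⟩, hms⟩ : ∃ q : B × p.primeCompl, LocalizedModule.mk q.1 q.2 = bb 1 := by
    induction bb 1 using LocalizedModule.induction_on with
    | h m s => exact ⟨(m, s), rfl⟩
  let fA := Algebra.linearMap A (Localization p.primeCompl)
  let fB := LocalizedModule.mkLinearMap p.primeCompl B
  let L : A × A →ₗ[A] B :=
    (LinearMap.id (R := A) (M := A)).smulRight (1 : B) ∘ₗ LinearMap.fst A A A +
    (LinearMap.id (R := A) (M := A)).smulRight m ∘ₗ LinearMap.snd A A A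
  have hL : ∀ a c, L (a, c) = algebraMap A B a + algebraMap A B c * m := fun a c => by
    simp [L, Algebra.algebraMap_eq_smul_one]
  have key : ∀ x : (Localization p.primeCompl) × (Localization p.primeCompl), IsLocalizedModule.map p.primeCompl (fA.prodMap fA) fB L x =
      x.1 • bb 0 + (x.2 * algebraMap A (Localization p.primeCompl) s) • bb 1 := by
    have hsm : (algebraMap A (Localization p.primeCompl) s) • LocalizedModule.mk m s = fB m := by
      rw [algebraMap_smul, LocalizedModule.smul'_mk]
      exact LocalizedModule.mk_eq.2 ⟨1, by simp [Submonoid.smul_def]⟩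
    have h1 : bb 0 = fB 1 := by
      rw [hb0]
      exact OreLocalization.one_def
    intro x
    rw [mul_smul, ← hms, hsm, h1]
    let M : (Localization p.primeCompl) × (Localization p.primeCompl) →ₗ[A] (LocalizedModule p.primeCompl B) :=
      ((LinearMap.id (R := (Localization p.primeCompl)) (M := (Localization p.primeCompl))).smulRight (fB 1) ∘ₗ LinearMap.fst (Localization p.primeCompl) (Localization p.primeCompl) (Localization p.primeCompl) +
      (LinearMap.id (R := (Localization p.primeCompl)) (M := (Localization p.primeCompl))).smulRight (fB m) ∘ₗ LinearMap.snd (Localization p.primeCompl) (Localization p.primeCompl) (Localization p.primeCompl)).restrictScalars A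
    suffices IsLocalizedModule.map p.primeCompl (fA.prodMap fA) fB L = M from
      (LinearMap.congr_fun this x).trans rfl
    refine IsLocalizedModule.linearMap_ext p.primeCompl (fA.prodMap fA) fB (LinearMap.ext fun y => ?_)
    obtain ⟨a, c⟩ := y
    simp only [LinearMap.comp_apply, IsLocalizedModule.map_apply]
    simp only [L, M, fA, LinearMap.add_apply, LinearMap.comp_apply, LinearMap.smulRight_apply,
      LinearMap.fst_apply, LinearMap.snd_apply, LinearMap.id_apply, map_add, map_smul,
      LinearMap.prodMap_apply, LinearMap.restrictScalars_apply, Algebra.linearMap_apply, algebraMap_smul]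
  have hbij : Function.Bijective (IsLocalizedModule.map p.primeCompl (fA.prodMap fA) fB L) := by
    have hus : IsUnit (algebraMap A (Localization p.primeCompl) s) := IsLocalization.map_units (Localization p.primeCompl) s
    constructor
    · intro x y hxy
      rw [key, key] at hxy
      have h' := congrArg bb.repr hxy
      have e0 := congrArg (fun w => w 0) h'
      have e1 := congrArg (fun w => w 1) h'
      simp at e0 e1
      exact Prod.ext e0 (hus.mul_left_injective e1)
    · intro z
      refine ⟨(bb.repr z 0, bb.repr z 1 * ↑hus.unit⁻¹), ?_⟩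
      rw [key]
      conv_rhs => rw [← bb.sum_repr z, Fin.sum_univ_two]
      simp [mul_assoc]
  obtain ⟨g, hg, hbg⟩ :=
    Module.FinitePresentation.exists_notMem_bijective L p (fA.prodMap fA) fB hbij
  refine ⟨g, hg, m, ⟨fun b => ?_, fun a c hac => ?_⟩⟩
  · obtain ⟨z, hz⟩ := hbg.2 (LocalizedModule.mk b 1)
    induction z using LocalizedModule.induction_on with
    | h y t =>
      obtain ⟨a, c⟩ := y
      rw [LocalizedModule.map_mk, LocalizedModule.mk_eq] at hz
      obtain ⟨⟨_, k, rfl⟩, hk⟩ := hz
      obtain ⟨_, j, rfl⟩ := t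
      simp only [one_smul, Submonoid.smul_def, hL, smul_add, Algebra.smul_def, map_pow] at hk
      exact ⟨k + j, g ^ k * a, g ^ k * c, by simp only [map_mul, map_pow]; linear_combination -hk⟩
  · have : LocalizedModule.map (Submonoid.powers g) L (LocalizedModule.mk (a, c) 1) =
        LocalizedModule.map (Submonoid.powers g) L 0 := by
      rw [LocalizedModule.map_mk, hL, hac, LocalizedModule.zero_mk, map_zero]
    have h0 := hbg.1 this
    rw [← LocalizedModule.zero_mk 1, LocalizedModule.mk_eq] at h0
    obtain ⟨⟨_, k, rfl⟩, hk⟩ := h0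
    simp [Submonoid.smul_def] at hk
    exact ⟨k, hk⟩

end DblCovInv
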